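import Cfsg.Agent.J4NonLocal.UThree.Base
import Cfsg.Agent.J4NonLocal.UThree.Data.Alpha

/-!
The keys of the entries increase, part 3.
-/

set_option autoImplicit false
set_option maxRecDepth 20000
set_option Elab.async false

namespace Cfsg.Lib.J4NonLocal.UThree

theorem alpha_keys15 : incr (fun e => act ptabs (alpha.entW e) alpha.f) (alpha.chunks.getD 15 ([], 0)).2 (alpha.chunks.getD 14 ([], 0)).2 alphaEnt15 = true := by
  decide +kernel

theorem alpha_keys16 : incr (fun e => act ptabs (alpha.entW e) alpha.f) (alpha.chunks.getD 16 ([], 0)).2 (alpha.chunks.getD 15 ([], 0)).2 alphaEnt16 = true := by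
  decide +kernel

theorem alpha_keys17 : incr (fun e => act ptabs (alpha.entW e) alpha.f) (alpha.chunks.getD 17 ([], 0)).2 (alpha.chunks.getD 16 ([], 0)).2 alphaEnt17 = true := by
  decide +kernel

theorem alpha_keys18 : incr (fun e => act ptabs (alpha.entW e) alpha.f) (alpha.chunks.getD 18 ([], 0)).2 (alpha.chunks.getD 17 ([], 0)).2 alphaEnt18 = true := by
  decide +kernel

theorem alpha_keys19 : incr (fun e => act ptabs (alpha.entW e) alpha.f) (alpha.chunks.getD 19 ([], 0)).2 (alpha.chunks.getD 18 ([], 0)).2 alphaEnt19 = true := by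
  decide +kernel

end Cfsg.Lib.J4NonLocal.UThree
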