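import Cfsg.Agent.J4NonLocal.UThree.Base
import Cfsg.Agent.J4NonLocal.UThree.Data.Alpha

/-!
The keys of the entries increase, part 5.
-/

set_option autoImplicit false
set_option maxRecDepth 20000
set_option Elab.async false

namespace Cfsg.Lib.J4NonLocal.UThree

theorem alpha_keys25 : incr (fun e => act ptabs (alpha.entW e) alpha.f) (alpha.chunks.getD 25 ([], 0)).2 (alpha.chunks.getD 24 ([], 0)).2 alphaEnt25 = true := by
  decide +kernel

theorem alpha_keys26 : incr (fun e => act ptabs (alpha.entW e) alpha.f) (alpha.chunks.getD 26 ([], 0)).2 (alpha.chunks.getD 25 ([], 0)).2 alphaEnt26 = true := by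
  decide +kernel

theorem alpha_keys27 : incr (fun e => act ptabs (alpha.entW e) alpha.f) (alpha.chunks.getD 27 ([], 0)).2 (alpha.chunks.getD 26 ([], 0)).2 alphaEnt27 = true := by
  decide +kernel

theorem alpha_keys28 : incr (fun e => act ptabs (alpha.entW e) alpha.f) (alpha.chunks.getD 28 ([], 0)).2 (alpha.chunks.getD 27 ([], 0)).2 alphaEnt28 = true := by
  decide +kernel

theorem alpha_keys29 : incr (fun e => act ptabs (alpha.entW e) alpha.f) (alpha.chunks.getD 29 ([], 0)).2 (alpha.chunks.getD 28 ([], 0)).2 alphaEnt29 = true := by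
  decide +kernel

end Cfsg.Lib.J4NonLocal.UThree
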