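import Cfsg.Agent.J4NonLocal.UThree.Base
import Cfsg.Agent.J4NonLocal.UThree.Data.Alpha

/-!
The keys of the entries increase, part 8.
-/

set_option autoImplicit false
set_option maxRecDepth 20000
set_option Elab.async false

namespace Cfsg.Lib.J4NonLocal.UThree

theorem alpha_keys40 : incr (fun e => act ptabs (alpha.entW e) alpha.f) (alpha.chunks.getD 40 ([], 0)).2 (alpha.chunks.getD 39 ([], 0)).2 alphaEnt40 = true := by
  decide +kernel

theorem alpha_keys41 : incr (fun e => act ptabs (alpha.entW e) alpha.f) (alpha.chunks.getD 41 ([], 0)).2 (alpha.chunks.getD 40 ([], 0)).2 alphaEnt41 = true := by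
  decide +kernel

theorem alpha_keys42 : incr (fun e => act ptabs (alpha.entW e) alpha.f) (alpha.chunks.getD 42 ([], 0)).2 (alpha.chunks.getD 41 ([], 0)).2 alphaEnt42 = true := by
  decide +kernel

theorem alpha_keys43 : incr (fun e => act ptabs (alpha.entW e) alpha.f) (alpha.chunks.getD 43 ([], 0)).2 (alpha.chunks.getD 42 ([], 0)).2 alphaEnt43 = true := by
  decide +kernel

theorem alpha_keys44 : incr (fun e => act ptabs (alpha.entW e) alpha.f) (alpha.chunks.getD 44 ([], 0)).2 (alpha.chunks.getD 43 ([], 0)).2 alphaEnt44 = true := by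
  decide +kernel

end Cfsg.Lib.J4NonLocal.UThree
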