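import Cfsg.Agent.J4NonLocal.UThree.Base
import Cfsg.Agent.J4NonLocal.UThree.Data.Alpha

/-!
The keys of the entries increase, part 9.
-/

set_option autoImplicit false
set_option maxRecDepth 20000
set_option Elab.async false

namespace Cfsg.Lib.J4NonLocal.UThree

theorem alpha_keys45 : incr (fun e => act ptabs (alpha.entW e) alpha.f) (alpha.chunks.getD 45 ([], 0)).2 (alpha.chunks.getD 44 ([], 0)).2 alphaEnt45 = true := by
  decide +kernel

theorem alpha_keys46 : incr (fun e => act ptabs (alpha.entW e) alpha.f) (alpha.chunks.getD 46 ([], 0)).2 (alpha.chunks.getD 45 ([], 0)).2 alphaEnt46 = true := by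
  decide +kernel

theorem alpha_keys47 : incr (fun e => act ptabs (alpha.entW e) alpha.f) (alpha.chunks.getD 47 ([], 0)).2 (alpha.chunks.getD 46 ([], 0)).2 alphaEnt47 = true := by
  decide +kernel

theorem alpha_keys48 : incr (fun e => act ptabs (alpha.entW e) alpha.f) (alpha.chunks.getD 48 ([], 0)).2 (alpha.chunks.getD 47 ([], 0)).2 alphaEnt48 = true := by
  decide +kernel

theorem alpha_keys49 : incr (fun e => act ptabs (alpha.entW e) alpha.f) (alpha.chunks.getD 49 ([], 0)).2 (alpha.chunks.getD 48 ([], 0)).2 alphaEnt49 = true := by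
  decide +kernel

end Cfsg.Lib.J4NonLocal.UThree
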