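import Cfsg.Agent.J4NonLocal.UThree.Base
import Cfsg.Agent.J4NonLocal.UThree.Data.Beta

/-!
Certificates of middle factors, part 0.
-/

set_option autoImplicit false
set_option maxRecDepth 20000
set_option Elab.async false

namespace Cfsg.Lib.J4NonLocal.UThree

theorem beta_crt0 : conjOK [4] beta.reps betaCrt0 = true := by decide +kernel

theorem beta_crt1 : conjOK [4] beta.reps betaCrt1 = true := by decide +kernel

theorem beta_crt2 : conjOK [4] beta.reps betaCrt2 = true := by decide +kernel

end Cfsg.Lib.J4NonLocal.UThree
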