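import Cfsg.Agent.J4NonLocal.UThree.Base
import Cfsg.Agent.J4NonLocal.UThree.Data.Beta

/-!
The keys of the entries increase, part 1.
-/

set_option autoImplicit false
set_option maxRecDepth 20000
set_option Elab.async false

namespace Cfsg.Lib.J4NonLocal.UThree

theorem beta_keys5 : incr (fun e => act ptabs (beta.entW e) beta.f) (beta.chunks.getD 5 ([], 0)).2 (beta.chunks.getD 4 ([], 0)).2 betaEnt5 = true := by
  decide +kernel

theorem beta_keys6 : incr (fun e => act ptabs (beta.entW e) beta.f) (beta.chunks.getD 6 ([], 0)).2 (beta.chunks.getD 5 ([], 0)).2 betaEnt6 = true := by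
  decide +kernel

theorem beta_keys7 : incr (fun e => act ptabs (beta.entW e) beta.f) (beta.chunks.getD 7 ([], 0)).2 (beta.chunks.getD 6 ([], 0)).2 betaEnt7 = true := by
  decide +kernel

theorem beta_keys8 : incr (fun e => act ptabs (beta.entW e) beta.f) (beta.chunks.getD 8 ([], 0)).2 (beta.chunks.getD 7 ([], 0)).2 betaEnt8 = true := by
  decide +kernel

theorem beta_keys9 : incr (fun e => act ptabs (beta.entW e) beta.f) (beta.chunks.getD 9 ([], 0)).2 (beta.chunks.getD 8 ([], 0)).2 betaEnt9 = true := by
  decide +kernel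

end Cfsg.Lib.J4NonLocal.UThree
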